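import Mathlib
import Cfsg.Agent.H172.SINum
import Cfsg.Agent.H35.PoinNum

/-!
# Strong pairs, exceptional groups with abelian Sylow subgroups: numbers (helper790, S2274)
-/

set_option autoImplicit false

namespace Cfsg.Agent.H790.Str

open Cfsg.Agent.H172.SI

variable {p : ℕ} [hp : Fact p.Prime]

theorem wt_zero {e : ℕ} : ∀ {ds : List ℕ}, (∀ k ∈ ds, e ∣ k → ¬ p ∣ k) → wt p e ds = 0
  | [], _ => rfl
  | k :: ds, h => by
    rw [wt, wt_zero (ds := ds) fun k hk => h k (List.mem_cons_of_mem _ hk), add_zero]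
    split_ifs with h1
    · exact padicValNat.eq_zero_of_not_dvd (h k List.mem_cons_self h1)
    · rfl

/-- the `p`-part of `∏ (q ^ d - 1)` -/
theorem padic_pr (h2 : Odd p) {q e : ℕ} (hq : ¬ p ∣ q) (hq2 : 2 ≤ q) (he : orderOf (q : ZMod p) = e) {ds : List ℕ}
    (h0 : ∀ k ∈ ds, 0 < k) (hw : ∀ k ∈ ds, e ∣ k → ¬ p ∣ k) :
    padicValNat p (H35.PoinNum.pr q ds) = padicValNat p (q ^ e - 1) * nm e ds := by
  have h1 := v_pr h2 (j := 0) hq hq2 ds h0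
  rw [pow_zero, pow_one, add_zero, he, wt_zero hw, add_zero] at h1
  exact h1

theorem pr_ne_zero' {q : ℕ} (hq : 2 ≤ q) {ds : List ℕ} (h : ∀ k ∈ ds, 0 < k) : H35.PoinNum.pr q ds ≠ 0 :=
  pr_ne_zero hq h

/-- **The `p`-part of an index.** -/
theorem padic_idx (h2 : Odd p) {q e : ℕ} (hq : ¬ p ∣ q) (hq2 : 2 ≤ q) (he : orderOf (q : ZMod p) = e)
    {dS dJ : List ℕ} (hS0 : ∀ k ∈ dS, 0 < k) (hSw : ∀ k ∈ dS, e ∣ k → ¬ p ∣ k) (hJ0 : ∀ k ∈ dJ, 0 < k)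
    (hJw : ∀ k ∈ dJ, e ∣ k → ¬ p ∣ k) {idx c : ℕ} (hI : idx * H35.PoinNum.pr q dJ = H35.PoinNum.pr q dS)
    (hc : nm e dS = nm e dJ + c) : padicValNat p idx = padicValNat p (q ^ e - 1) * c := by
  have h3 := congrArg (padicValNat p) hI
  have h4 : idx ≠ 0 := by
    rintro rfl
    rw [zero_mul] at hI
    exact pr_ne_zero' hq2 hS0 hI.symm
  rw [padicValNat.mul h4 (pr_ne_zero' hq2 hJ0), padic_pr h2 hq hq2 he hS0 hSw, padic_pr h2 hq hq2 he hJ0 hJw, hc] at h3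
  rw [mul_add] at h3
  omega

theorem one_le_padic {q e : ℕ} (hq2 : 2 ≤ q) (he : orderOf (q : ZMod p) = e) (he0 : e ≠ 0) :
    1 ≤ padicValNat p (q ^ e - 1) := by
  have h1 : p ∣ q ^ e - 1 := by
    rw [dvd_iff_order (by omega), he]
  have h2 : q ^ e - 1 ≠ 0 := by
    have : 1 < q ^ e := Nat.one_lt_pow he0 (by omega)
    omega
  exact one_le_padicValNat_of_dvd h2 h1

/-- the index is divisible by `p` -/
theorem dvd_idx' (h2 : Odd p) {q e : ℕ} (hq : ¬ p ∣ q) (hq2 : 2 ≤ q) (he : orderOf (q : ZMod p) = e) (he0 : e ≠ 0)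
    {dS dJ : List ℕ} (hS0 : ∀ k ∈ dS, 0 < k) (hSw : ∀ k ∈ dS, e ∣ k → ¬ p ∣ k) (hJ0 : ∀ k ∈ dJ, 0 < k)
    (hJw : ∀ k ∈ dJ, e ∣ k → ¬ p ∣ k) {idx : ℕ} (hI : idx * H35.PoinNum.pr q dJ = H35.PoinNum.pr q dS)
    (hc : nm e dJ < nm e dS) : p ∣ idx := by
  obtain ⟨c, hc⟩ := Nat.exists_eq_add_of_lt hc
  have h3 := padic_idx h2 hq hq2 he hS0 hSw hJ0 hJw hI (c := c + 1) (by omega)
  have h4 := one_le_padic (p := p) hq2 he he0
  by_contra h5
  rw [padicValNat.eq_zero_of_not_dvd h5] at h3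
  have : 0 < padicValNat p (q ^ e - 1) * (c + 1) := Nat.mul_pos h4 (Nat.succ_pos c)
  omega

/-- `q ^ N ≡ -1` for `q` of order `6` and `N ≡ 3` modulo `6` -/
theorem six_neg {q N : ℕ} (he : orderOf (q : ZMod p) = 6) (hN : N % 6 = 3) : p ∣ q ^ N + 1 := by
  have h6 : (q : ZMod p) ^ 6 = 1 := by rw [← he]; exact pow_orderOf_eq_one _
  have h3 : (q : ZMod p) ^ 3 ≠ 1 := by
    intro h
    have := Nat.le_of_dvd (by norm_num) (orderOf_dvd_of_pow_eq_one h)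
    omega
  have h4 : (q : ZMod p) ^ 3 = -1 := by
    have h5 : ((q : ZMod p) ^ 3 - 1) * ((q : ZMod p) ^ 3 + 1) = 0 := by linear_combination h6
    rcases mul_eq_zero.1 h5 with h | h
    · exact absurd (sub_eq_zero.1 h) h3
    · exact eq_neg_of_add_eq_zero_left h
  rw [← CharP.cast_eq_zero_iff (ZMod p) p]
  push_cast
  have h7 : N = 6 * (N / 6) + 3 := by omega
  rw [h7, pow_add, pow_mul, h6, one_pow, one_mul, h4]
  ring

end Cfsg.Agent.H790.Str
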