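import Cfsg.Agent.H28.T5TorRows

/-!
# Torus elements of order `ℓ ^ a` (helper790, S2274; after helper28's `T5Tor`)

* `order_of_eig` : an element of order `ℓ ^ a` in `S`, `ℓ ^ a ∣ f(q)`;
* `order_E7_six`, `order_E8_six` : elements of order `7 ^ a`, `a` the `7`-adic valuation of `q ^ 6 - 1`, `q` of order `6`.
-/

set_option autoImplicit false
set_option linter.unusedSectionVars false

namespace Cfsg.Agent.H790.Str

open CoxeterSystem Cfsg Cfsg.Lie Cfsg.Lie.ChevalleyDatum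
open Cfsg.Agent.ChevalleyStructure Cfsg.Agent.ChevalleyStructure.Elts Cfsg.Agent.ChevalleyStructure.CoxeterGeom
  Cfsg.Agent.ChevalleyStructure.CoxeterGeomTypes Cfsg.Agent.ChevalleyStructure.NPerm
open Cfsg.Agent.Tits.Roots Cfsg.Agent.Tits.Core Cfsg.Agent.Nodes Cfsg.Agent.Nodes.Reps Cfsg.Agent.Nodes.BNOf
  Cfsg.Agent.Nodes.RGDChev Cfsg.Agent.Nodes.Bruhat Cfsg.Agent.Nodes.SubComb Cfsg.Agent.Nodes.Coroot
open Cfsg.Agent.KFacts.RgdField Cfsg.Agent.KFacts.RgdChevCoord Cfsg.Agent.BpExc.TorCent Cfsg.Agent.BpExc.TorChev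
open Cfsg.Agent.GpExc.Field Cfsg.Agent.BpExc.Tow Cfsg.Agent.BpExc.TowChev Cfsg.Agent.BpExc.Fr
  Cfsg.Agent.BpExc.LangFr Cfsg.Agent.LangThm Cfsg.Agent.BpExc Cfsg.Agent.H129.TorusChar Cfsg.Agent.H129.TorusCent
  Cfsg.Agent.H129.TorusTw Cfsg.Agent.H129.TorusMain Cfsg.Agent.H493.PGTorus Cfsg.Agent.H493.PGTwist
open Cfsg.Agent.BpExc.FamExt Cfsg.Agent.BpExc.FamUntw
  Cfsg.Agent.BpExc.FamInst Cfsg.Agent.BpExc.FamField
open Cfsg.Agent.H129.WData Cfsg.Agent.H378.CycTab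
open Cfsg.Agent.H28.T5Tor Cfsg.Agent.H28.T5TorRows

universe u

section Main

variable {D : ChevalleyDatum} {l : ℕ} {M : CoxeterMatrix (Fin l)} (hp : IsType D l M) {k : Type u} [Field k]
  [IsAlgClosed k] {W : Type*} [Group W] [Finite W] (cs : CoxeterSystem M W) {p e : ℕ} [Fact p.Prime] [CharP k p]
  {σ : MulAut ↥(D.group k)} {g : (Fin l → ℤ) ≃+ (Fin l → ℤ)}
  {G0 : Type*} [Group G0] {e0 : G0 →* ↥(D.group k)}

/-- a torus element of order `m` from an eigenfunctional modulo `m` -/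
theorem exists_tor (hσ : IsFrob p e σ) (F : Fr cs hp.isCartan (TT D k) (XX D l k) σ g) {d' : ℕ}
    {B' : Fin l → Fin l → ℤ} (hB : _root_.Cfsg.Agent.H129.TorusChar.InvC D l d' B') (hd' : d' ≠ 0) {L : (Fin l → ℤ) →+ ℤ} {m : ℕ}
    (hm0 : m ≠ 0) (hmp : ¬ p ∣ m) (hL : ∀ x, (m : ℤ) ∣ L (g x) - ((p ^ e : ℕ) : ℤ) * L x)
    {x₀ : Fin l → ℤ} (hx₀ : L x₀ = 1) :
    ∃ t : ↥(D.group k), t ∈ TT D k ∧ σ t = t ∧ orderOf t = m := by
  have hrk : (m : k) ≠ 0 := by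
    rw [Ne, CharP.cast_eq_zero_iff k p]
    exact hmp
  have : NeZero (m : k) := ⟨hrk⟩
  obtain ⟨u, hu⟩ := HasEnoughRootsOfUnity.exists_primitiveRoot k m
  have hu0 : u ≠ 0 := hu.ne_zero hm0
  have hone : ∀ z : ℤ, u ^ z = 1 ↔ (m : ℤ) ∣ z := fun z => hu.zpow_eq_one_iff_dvd z
  obtain ⟨t, ht, hcX⟩ : ∃ t ∈ TT D k, ∀ x, cX hp t x = u ^ (L x) := by
    have hMC : IsMC (fun x : Fin l → ℤ => u ^ (L x)) :=
      ⟨by
        show u ^ _ = 1
        rw [map_zero, zpow_zero],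
      fun x y => by
        show u ^ _ = u ^ _ * u ^ _
        rw [map_add, zpow_add₀ hu0]⟩
    exact exists_cX hp hB hd' hMC fun i => IsAlgClosed.exists_pow_nat_eq _ (Nat.pos_of_ne_zero hd')
  refine ⟨t, ht, ?_, ?_⟩
  · have hσt : σ t ∈ TT D k := (F.tor _).2 ht
    refine cX_inj hp hσt ht fun i => ?_
    have h1 : sr i = g (g.symm (sr i)) := (g.apply_symm_apply _).symm
    rw [h1, cX_sigma hp cs hσ F ht, hcX, hcX, ← zpow_natCast, ← zpow_mul]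
    obtain ⟨N, hN⟩ := hL (g.symm (sr i))
    rw [mul_comm] at hN
    have h2 : L (g (g.symm (sr i))) = L (g.symm (sr i)) * ((p ^ e : ℕ) : ℤ) + m * N := by
      linear_combination hN
    rw [h2, zpow_add₀ hu0, (hone ((m : ℤ) * N)).2 (dvd_mul_right _ _), mul_one]
  · refine Nat.dvd_antisymm (orderOf_dvd_of_pow_eq_one ?_) ?_
    · refine cX_inj hp (pow_mem ht m) (one_mem _) fun i => ?_
      rw [cX_pow hp ht, cX_one, hcX, ← zpow_natCast, ← zpow_mul, hone]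
      exact dvd_mul_left _ _
    · have h1 : cX hp (t ^ orderOf t) x₀ = 1 := by rw [pow_orderOf_eq_one, cX_one]
      rw [cX_pow hp ht, hcX, hx₀, zpow_one] at h1
      exact hu.dvd_of_pow_eq_one _ h1

/-- **An element of order `ℓ ^ a`.** -/
theorem order_of_eig (hk : LocFin k) (he : 0 < e) (hσ : IsFrob p e σ)
    (F : Fr cs hp.isCartan (TT D k) (XX D l k) σ g) {d' : ℕ} {B' : Fin l → Fin l → ℤ} (hB : _root_.Cfsg.Agent.H129.TorusChar.InvC D l d' B')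
    (hd' : d' ≠ 0) (he0 : Function.Injective e0) {d : ℕ} (hd : ∀ y, σ y = y → y ^ d ∈ e0.range)
    {w : W} {Th : Fin l → Fin l → ℤ} (hw : ∀ j, rep cs hp.isCartan w (g (sr j)) = Th j)
    {f : ℕ} {c : Fin (f + 1) → ℤ} {V : Fin (f + 1) → Fin l → ℤ} {U : Fin l → ℤ}
    (h : EigOK (fun i j => Th j i) c V U)
    {ℓ : ℕ} [hℓ : Fact ℓ.Prime] (hℓd : ¬ ℓ ∣ d) (hℓp : ℓ ≠ p) {a : ℕ}
    (ha : ((ℓ ^ a : ℕ) : ℤ) ∣ pv c ((p ^ e : ℕ) : ℤ)) : ∃ x : G0, orderOf x = ℓ ^ a := by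
  have hm0 : ℓ ^ a ≠ 0 := pow_ne_zero _ hℓ.out.ne_zero
  have hcop : (ℓ ^ a).Coprime d := ((Nat.Prime.coprime_iff_not_dvd hℓ.out).2 hℓd).pow_left a
  obtain ⟨n, z, hz, hσ', F'⟩ := exists_z hp cs hk he hσ F w
  have hmp : ¬ p ∣ ℓ ^ a := fun h1 =>
    hℓp ((Nat.prime_dvd_prime_iff_eq (Fact.out : p.Prime) hℓ.out).1 ((Fact.out : p.Prime).dvd_of_dvd_pow h1)).symm
  obtain ⟨T, hT1, hT2, hT3⟩ := exists_tor hp cs hσ' F' hB hd' (L := lam V ((p ^ e : ℕ) : ℤ)) hm0 hmp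
    (fun x => hL_of_eig hp cs hw h ha x) (x₀ := U) (lam_unit h _)
  obtain ⟨x, hx⟩ := hd _ (fix_conj hz hT2)
  refine ⟨x, ?_⟩
  rw [← orderOf_injective e0 he0, hx, conj_pow]
  have h1 : orderOf (z * T ^ d * z⁻¹) = orderOf (T ^ d) := by
    have := (MulAut.conj z).orderOf_eq (T ^ d)
    rwa [MulAut.conj_apply] at this
  rw [h1, Nat.Coprime.orderOf_pow (by rw [hT3]; exact hcop), hT3]

end Main

section Rows

variable {D : ChevalleyDatum} {l : ℕ} {M : CoxeterMatrix (Fin l)} (hp : IsType D l M) {W : Type*} [Group W]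
  [Finite W] (cs : CoxeterSystem M W)

theorem order_untw {d : ℕ} {B : Fin l → Fin l → ℤ} (hB : _root_.Cfsg.Agent.H129.TorusChar.InvC D l d B) (hd : d ≠ 0) {F : Type u} [Field F] [Finite F]
    {w : W} {Th : Mat l} (hw : ∀ j, rep cs hp.isCartan w (sr j) = Th j) {f : ℕ} {c : Fin (f + 1) → ℤ}
    {V : Fin (f + 1) → Fin l → ℤ} {U : Fin l → ℤ} (h : EigOK (fun i j => Th j i) c V U)
    {ℓ : ℕ} [hℓ : Fact ℓ.Prime] (hℓd : ¬ ℓ ∣ Nat.gcd d (Nat.card F - 1)) (hℓq : ¬ ℓ ∣ Nat.card F) {a : ℕ}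
    (ha : ((ℓ ^ a : ℕ) : ℤ) ∣ pv c ((Nat.card F : ℕ) : ℤ)) : ∃ x : ↥(D.group F), orderOf x = ℓ ^ a := by
  obtain ⟨k, _, _, g, p, _, _, n, hk, -, hn0, hn⟩ := Cfsg.Agent.H378.TorFin.exists_closure F
  have hℓp : ℓ ≠ p := by
    rintro rfl
    exact hℓq (hn ▸ dvd_pow_self _ hn0.ne')
  rw [hn] at ha
  exact order_of_eig hp cs hk hn0 (phi_isFrob p n) (phi_fr hp cs p hk n) hB hd (emb_injective hp.inList g)
    (fun y hy => Cfsg.Agent.H378.RootTor.fix_pow_mem' hp g p hn hB hd hy) hw h hℓd hℓp ha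

end Rows

variable {F : Type u} [Field F] [Fintype F]

/-- **`E₇(q)`, `q` of order `6` modulo `7`.** -/
theorem order_E7_six (ho : orderOf (Fintype.card F : ZMod 7) = 6) :
    ∃ x : ↥(chevE7.group F), orderOf x = 7 ^ padicValNat 7 (Fintype.card F ^ 6 - 1) := by
  have := Cfsg.Agent.H493.PGE7.finW
  have h2 := rows_mul Cfsg.Agent.H493.PGE7.hp _ cox7 cox7 p72
  have h3 := rows_mul Cfsg.Agent.H493.PGE7.hp _ cox7 h2 p73
  have hc : Nat.card F = Fintype.card F := Nat.card_eq_fintype_card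
  refine order_untw Cfsg.Agent.H493.PGE7.hp _ Cfsg.Agent.H129.TorusChar.invC_E7 (by norm_num) h3 (ok76.1 0) (ℓ := 7) ?_ ?_ ?_
  · intro h
    have := h.trans (Nat.gcd_dvd_left _ _)
    norm_num at this
  · rw [hc]
    exact not_dvd_of (by norm_num) ho
  · rw [hc]
    exact dvd_c6 Fintype.card_pos ho

/-- **`E₈(q)`, `q` of order `6` modulo `7`.** -/
theorem order_E8_six (ho : orderOf (Fintype.card F : ZMod 7) = 6) :
    ∃ x : ↥(chevE8.group F), orderOf x = 7 ^ padicValNat 7 (Fintype.card F ^ 6 - 1) := by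
  have := Cfsg.Agent.H493.PGE8.finW
  have h2 := rows_mul Cfsg.Agent.H493.PGE8.hp _ cox8 cox8 p82
  have h4 := rows_mul Cfsg.Agent.H493.PGE8.hp _ h2 h2 p84
  have h5 := rows_mul Cfsg.Agent.H493.PGE8.hp _ cox8 h4 p85
  have hc : Nat.card F = Fintype.card F := Nat.card_eq_fintype_card
  refine order_untw Cfsg.Agent.H493.PGE8.hp _ Cfsg.Agent.H129.TorusChar.invC_E8 (by norm_num) h5 (ok86.1 0) (ℓ := 7) ?_ ?_ ?_
  · intro h
    have := h.trans (Nat.gcd_dvd_left _ _)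
    norm_num at this
  · rw [hc]
    exact not_dvd_of (by norm_num) ho
  · rw [hc]
    exact dvd_c6 Fintype.card_pos ho

end Cfsg.Agent.H790.Str
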