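import Cfsg.Agent.H790.Str.Grp
import Cfsg.Agent.H81.PJCent
import Cfsg.Agent.KFacts.RgdLieCharP
import Cfsg.Agent.H585.SuOwn

/-!
# Strong pairs, exceptional groups with abelian Sylow subgroups: root group data (helper790, S2274)

`CD p r P H V` : the input of the engine: `P` normalises no `r`-subgroup, `H ≤ P`, `Ω₁(P) H / H` is cyclic, the `r`-subgroup `V`
centralises `H` and is not cyclic of order dividing `p - 1`.

* `cd_six` : `V = C_Q(H)`, `Q` the unipotent radical of a maximal parabolic subgroup with `|Q| ≡ -1` modulo `p`;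
* `cd_two` : `V = X a X b`, two commuting root groups centralising a Levi subgroup.
-/

set_option autoImplicit false
set_option linter.unusedSectionVars false

namespace Cfsg.Agent.H790.Str

open CoxeterSystem Cfsg.Agent.ChevalleyStructure.CoxeterGeom Cfsg.Agent.Tits.Roots Cfsg.Agent.Tits.Core
  Cfsg.Agent.Tits.Exchange Cfsg.Agent.Nodes.Reps Cfsg.Agent.Nodes.BNOf Cfsg.Agent.Nodes.StabComb
  Cfsg.Agent.Nodes.Bruhat Cfsg.Agent.Nodes.OppDec Cfsg.Agent.Nodes.LeviDec Cfsg.Agent.Nodes.NormalForm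
  Cfsg.Agent.Nodes.CardSup Cfsg.Agent.KFacts.RgdCharP

/-- the arithmetic of `e = 6` -/
theorem nd_six {r p : ℕ} [hr : Fact r.Prime] [hp : Fact p.Prime] {c q : ℕ} {j : ℕ} (hc : c = r ^ j) (hq : orderOf (q : ZMod p) = 6) (h1 : p ∣ c + 1) (hpq : ¬ p ∣ q) :
    ¬ c ∣ p - 1 := by
  intro h2
  have h3 : 0 < p - 1 := by have := hp.out.two_le; omega
  have h4 := Nat.le_of_dvd h3 h2
  have h5 := Nat.le_of_dvd (Nat.succ_pos c) h1
  have h6 : p - 1 = c := by omega
  have hq0 : (q : ZMod p) ≠ 0 := fun h => hpq ((CharP.cast_eq_zero_iff (ZMod p) p q).1 h)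
  have h7 : 6 ∣ r ^ j := by
    rw [← hc, ← h6, ← hq]
    exact ZMod.orderOf_dvd_card_sub_one hq0
  have h8 : 2 ∣ r := Nat.prime_two.dvd_of_dvd_pow ((by norm_num : (2 : ℕ) ∣ 6).trans h7)
  have h9 : 3 ∣ r := Nat.prime_three.dvd_of_dvd_pow ((by norm_num : (3 : ℕ) ∣ 6).trans h7)
  rw [Nat.prime_dvd_prime_iff_eq Nat.prime_two hr.out] at h8
  rw [Nat.prime_dvd_prime_iff_eq Nat.prime_three hr.out] at h9
  omega

/-- the input of the engine -/
structure CD (p r : ℕ) {S : Type*} [Group S] (P : Subgroup S) (H V : Subgroup S) : Prop where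
  nr : ∀ U : Subgroup S, IsPGroup r U → P ≤ Subgroup.normalizer (U : Set S) → U = ⊥
  le : H ≤ P
  ne : H ≠ ⊥
  om : ∀ z ∈ P, ∀ w ∈ P, z ^ p = 1 → w ^ p = 1 → z ∉ H → ∃ n : ℕ, z ^ n * w ∈ H
  pg : IsPGroup r V
  cm : ∀ x ∈ V, ∀ y ∈ H, Commute x y
  nd : ¬ (IsCyclic V ∧ Nat.card V ∣ p - 1)

variable {I W Y : Type*} [Fintype I] [DecidableEq I] [Group W] [Group Y] {M : CoxeterMatrix I}
  {cs : CoxeterSystem M W} {A : I → I → ℤ} {h : IsCartan M A} {r : ℕ} {T : Subgroup Y} {n : I → Y}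
  {X : (I → ℤ) → Subgroup Y}

theorem index_cj {G : Type*} [Group G] (g : G) (K : Subgroup G) : (cj g K).index = K.index :=
  Subgroup.index_map_equiv K (MulAut.conj g)

/-- **`P` normalises no `r`-subgroup** if it is contained in no proper parabolic subgroup. -/
theorem nr_of [Finite W] [Finite Y] [Fact r.Prime] (hBT : BT cs h r T X) {p : ℕ} [Fact p.Prime]
    (hidx : ∀ i, p ∣ (PJ cs h T X {j | j ≠ i}).index) (P : Sylow p Y) (V : Subgroup Y) (hV : IsPGroup r V)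
    (hPV : (P : Subgroup Y) ≤ Subgroup.normalizer (V : Set Y)) : V = ⊥ := by
  by_contra hne
  obtain ⟨g, J, hJ, -, hle⟩ := hBT V hV hne
  obtain ⟨i, hi⟩ := (Set.ne_univ_iff_exists_notMem _).1 hJ
  have h0 : PJ cs h T X J ≤ PJ cs h T X {j | j ≠ i} := Cfsg.Agent.H585.SuOwn.PJ_mono fun j hj => by
    rintro rfl
    exact hi hj
  have h1 : (P : Subgroup Y) ≤ cj g (PJ cs h T X {j | j ≠ i}) :=
    hPV.trans (hle.trans (Subgroup.map_mono h0))
  have h2 := Subgroup.index_dvd_of_le h1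
  rw [index_cj] at h2
  exact P.not_dvd_index ((hidx i).trans h2)

/-- the Levi subgroup centralises `X b` -/
theorem levi_cent [Finite W] (R : RGD cs h r T n X) {J : Set I} {b : I → ℤ} (hb : IsRoot cs h b)
    (hfix : ∀ j ∈ J, rep cs h (cs.simple j) b = b) (hcomm : ∀ j ∈ J, ∀ u ∈ X (sr j), ∀ v ∈ X b, u * v = v * u)
    {u v : Y} (hu : u ∈ RGD.Sup X (RootsJ cs h J)) (hv : v ∈ X b) : u * v = v * u := by
  have hle : RGD.Sup X (RootsJ cs h J) ≤ Subgroup.centralizer (X b : Set Y) := by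
    refine RGD.Sup_le fun x hx => ?_
    obtain ⟨w, hw, j, hj, rfl⟩ := exists_of_mem_RootsJ hx
    have hvb : rep cs h w b = b := by
      refine Subgroup.closure_induction (p := fun v _ => rep cs h v b = b) ?_ ?_ ?_ ?_ hw
      · rintro _ ⟨j, hj, rfl⟩
        exact hfix j hj
      · rw [map_one, Module.End.one_apply]
      · intro x y _ _ hx hy
        rw [rep_mul_apply, hy, hx]
      · intro x _ hx
        conv_lhs => rw [← hx]
        exact rep_inv_apply cs h x b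
    obtain ⟨g, hg⟩ := exists_rp cs R.nsys w
    have h1 : cj g (X b) = X b := by rw [R.conj_rp hg hb, hvb]
    intro u hu
    rw [← R.conj_rp hg (isRoot_sr cs h j), mem_cj] at hu
    rw [Subgroup.mem_centralizer_iff]
    intro z hz
    have h2 : g⁻¹ * z * g ∈ X b := by
      have hz' : z ∈ X b := hz
      rw [← h1, mem_cj] at hz'
      exact hz'
    have h3 := hcomm j hj _ hu _ h2
    have h4 : g * (g⁻¹ * u * g * (g⁻¹ * z * g)) * g⁻¹ = g * (g⁻¹ * z * g * (g⁻¹ * u * g)) * g⁻¹ := by rw [h3]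
    have h5 : g * (g⁻¹ * u * g * (g⁻¹ * z * g)) * g⁻¹ = u * z := by group
    have h6 : g * (g⁻¹ * z * g * (g⁻¹ * u * g)) * g⁻¹ = z * u := by group
    rw [h5, h6] at h4
    exact h4.symm
  exact (Subgroup.mem_centralizer_iff.1 (hle hu) v hv).symm

/-- the `p`-part of the index of the Levi subgroup -/
theorem padic_levi [Finite W] [Finite Y] [hr : Fact r.Prime] (R : RGD cs h r T n X) {p : ℕ} [hp : Fact p.Prime]
    (hpr : p ≠ r) (hT : ¬ p ∣ Nat.card ↥T) (J : Set I) :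
    padicValNat p (RGD.Sup X (RootsJ cs h J)).index ≤ padicValNat p (PJ cs h T X J).index := by
  set K := RGD.Sup X (RootsJ cs h J) with hK
  have h2 : Nat.card ↥(PJ cs h T X J) ∣ Nat.card ↥(LJ cs h T X J) * Nat.card ↥(VJ cs h X J) :=
    Cfsg.Agent.H81.PJCent.card_sup_dvd (LJ_le_normalizer_VJ R J)
  have h4 : Nat.card ↥(LJ cs h T X J) ∣ Nat.card ↥T * Nat.card ↥K :=
    Cfsg.Agent.H81.PJCent.card_sup_dvd (R.T_le_normalizer fun x hx => hx.1)
  have hV : ¬ p ∣ Nat.card ↥(VJ cs h X J) := by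
    intro h3
    have h4 : IsPGroup r ↥(VJ cs h X J) := R.isPGroup_Upos.to_le (VJ_le_U J)
    obtain ⟨k, hk⟩ := (IsPGroup.iff_card (p := r)).1 h4
    rw [hk] at h3
    exact hpr ((Nat.prime_dvd_prime_iff_eq hp.out hr.out).1 (hp.out.dvd_of_dvd_pow h3))
  have h5 : Nat.card ↥(PJ cs h T X J) ∣ Nat.card ↥T * Nat.card ↥K * Nat.card ↥(VJ cs h X J) :=
    h2.trans (mul_dvd_mul_right h4 _)
  have h0 : ∀ L : Subgroup Y, Nat.card ↥L ≠ 0 := fun L => Nat.card_pos.ne'
  have h6 : padicValNat p (Nat.card ↥(PJ cs h T X J)) ≤ padicValNat p (Nat.card ↥K) := by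
    have h7 := (padicValNat_dvd_iff_le (p := p) (mul_ne_zero (mul_ne_zero (h0 T) (h0 K)) (h0 (VJ cs h X J)))).1
      ((pow_padicValNat_dvd (p := p) (n := Nat.card ↥(PJ cs h T X J))).trans h5)
    rw [padicValNat.mul (mul_ne_zero (h0 T) (h0 K)) (h0 _), padicValNat.mul (h0 T) (h0 K),
      padicValNat.eq_zero_of_not_dvd hV, padicValNat.eq_zero_of_not_dvd hT, zero_add, add_zero] at h7
    exact h7
  have h8 := congrArg (padicValNat p) (Subgroup.index_mul_card K)
  have h9 := congrArg (padicValNat p) (Subgroup.index_mul_card (PJ cs h T X J))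
  rw [padicValNat.mul K.index_ne_zero_of_finite (h0 _)] at h8
  rw [padicValNat.mul (PJ cs h T X J).index_ne_zero_of_finite (h0 _)] at h9
  omega

section Main

variable [Finite W] [Finite Y] [hr : Fact r.Prime] (R : RGD cs h r T n X) (hBT : BT cs h r T X) {p : ℕ}
  [hp : Fact p.Prime] (hidx : ∀ i, p ∣ (PJ cs h T X {j | j ≠ i}).index) {s : ℕ}
  (hhom : ∀ P : Sylow p Y, ∃ k t : ℕ, s ≤ t ∧ Nonempty (↥(P : Subgroup Y) ≃* (Fin k → Multiplicative (ZMod (p ^ t)))))
  (hlt : s < padicValNat p (Nat.card Y))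

include R hBT hidx hhom hlt

omit [DecidableEq I] [Fintype I] [Group W] [Finite W] hr R hBT hidx hhom in
theorem ne_bot_of {P : Sylow p Y} {H : Subgroup Y} (hHP : H ≤ (P : Subgroup Y)) (hrel : H.relIndex (P : Subgroup Y) ≤ p ^ s) :
    H ≠ ⊥ := by
  rintro rfl
  rw [Subgroup.relIndex_bot_left, P.card_eq_multiplicity, Nat.factorization_def _ hp.out] at hrel
  exact absurd hrel (not_le.2 (Nat.pow_lt_pow_right hp.out.one_lt hlt))

/-- **The case `e = 6`**: the unipotent radical `Q` of a maximal parabolic subgroup with `|Q| ≡ -1`. -/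
theorem cd_six {i : I} (hs : padicValNat p (PJ cs h T X {j | j ≠ i}).index ≤ s) {q : ℕ}
    (hq : orderOf (q : ZMod p) = 6) (hpq : ¬ p ∣ q) (hV : p ∣ Nat.card ↥(VJ cs h X {j | j ≠ i}) + 1) :
    ∃ (P : Sylow p Y) (H V : Subgroup Y), CD p r (P : Subgroup Y) H V := by
  obtain ⟨P, H, hHP, hHM, hHp, hrel⟩ := exists_sylow_of (p := p) (PJ cs h T X {j | j ≠ i})
  set Q := VJ cs h X {j | j ≠ i} with hQ
  have hN : H ≤ Subgroup.normalizer (Q : Set Y) := hHM.trans (PJ_le_normalizer_VJ R _)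
  have h1 := card_cent_modEq hHp hN
  have hQr : IsPGroup r Q := isPGroup_VJ R _
  have hVr : IsPGroup r ↥(Q ⊓ Subgroup.centralizer (H : Set Y)) := hQr.to_le inf_le_left
  obtain ⟨j, hj⟩ := (IsPGroup.iff_card (p := r)).1 hVr
  have hrel' : H.relIndex (P : Subgroup Y) ≤ p ^ s := by
    rw [hrel]; exact Nat.pow_le_pow_right hp.out.pos hs
  refine ⟨P, H, Q ⊓ Subgroup.centralizer (H : Set Y), nr_of hBT hidx P, hHP, ne_bot_of hlt hHP hrel', ?_, hVr, ?_, ?_⟩
  · intro z hz w hw hzp hwp hzH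
    obtain ⟨k, t, hst, ⟨e⟩⟩ := hhom P
    exact omega_cyc e (hrel'.trans (Nat.pow_le_pow_right hp.out.pos hst)) hz hw hzp hwp hzH
  · intro x hx y hy
    exact (Subgroup.mem_centralizer_iff.1 hx.2 y hy).symm
  · rintro ⟨-, h2⟩
    refine nd_six hj hq ?_ hpq h2
    have h3 : (Nat.card ↥(Q ⊓ Subgroup.centralizer (H : Set Y)) + 1) ≡ Nat.card ↥Q + 1 [MOD p] := h1.add_right 1
    exact (h3.dvd_iff dvd_rfl).2 hV

/-- **Two commuting root groups centralising a Levi subgroup.** -/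
theorem cd_two (hpr : p ≠ r) (hT : ¬ p ∣ Nat.card ↥T) {J : Set I}
    (hs : padicValNat p (PJ cs h T X J).index ≤ s) {a b : I → ℤ} (ha : IsRoot cs h a) (hb : IsRoot cs h b)
    (hfa : ∀ j ∈ J, rep cs h (cs.simple j) a = a) (hca : ∀ j ∈ J, ∀ u ∈ X (sr j), ∀ v ∈ X a, u * v = v * u)
    (hfb : ∀ j ∈ J, rep cs h (cs.simple j) b = b) (hcb : ∀ j ∈ J, ∀ u ∈ X (sr j), ∀ v ∈ X b, u * v = v * u)
    (hab : ∀ u ∈ X a, ∀ v ∈ X b, u * v = v * u) (hinf : X a ⊓ X b = ⊥) (hXa : X a ≠ ⊥) (hXb : X b ≠ ⊥) :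
    ∃ (P : Sylow p Y) (H V : Subgroup Y), CD p r (P : Subgroup Y) H V := by
  obtain ⟨P, H, hHP, hHM, hHp, hrel⟩ := exists_sylow_of (p := p) (RGD.Sup X (RootsJ cs h J))
  have hpa : IsPGroup r (X a) := R.pgrp' ha
  have hpb : IsPGroup r (X b) := R.pgrp' hb
  have hnab : X a ≤ Subgroup.normalizer (X b : Set Y) := by
    intro u hu
    rw [Subgroup.mem_normalizer_iff]
    intro v
    constructor
    · intro hv
      rw [hab u hu v hv, mul_inv_cancel_right]
      exact hv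
    · intro hv
      have h1 := hab u⁻¹ (inv_mem hu) _ hv
      have h2 : v = u⁻¹ * (u * v * u⁻¹) * u := by group
      rw [h2, h1, mul_assoc, inv_mul_cancel, mul_one]
      exact hv
  have hVr : IsPGroup r ↥(X a ⊔ X b) := hpa.to_sup_of_normal_right' hpb hnab
  have hrel' : H.relIndex (P : Subgroup Y) ≤ p ^ s := by
    rw [hrel]; exact Nat.pow_le_pow_right hp.out.pos ((padic_levi R hpr hT J).trans hs)
  refine ⟨P, H, X a ⊔ X b, nr_of hBT hidx P, hHP, ne_bot_of hlt hHP hrel', ?_, hVr, ?_, ?_⟩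
  · intro z hz w hw hzp hwp hzH
    obtain ⟨k, t, hst, ⟨e⟩⟩ := hhom P
    exact omega_cyc e (hrel'.trans (Nat.pow_le_pow_right hp.out.pos hst)) hz hw hzp hwp hzH
  · intro x hx y hy
    have h1 : X a ⊔ X b ≤ Subgroup.centralizer ({y} : Set Y) := by
      refine sup_le (fun v hv => ?_) (fun v hv => ?_)
      · rw [Subgroup.mem_centralizer_singleton_iff]
        exact (levi_cent R ha hfa hca (hHM hy) hv).symm
      · rw [Subgroup.mem_centralizer_singleton_iff]
        exact (levi_cent R hb hfb hcb (hHM hy) hv).symm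
    exact Subgroup.mem_centralizer_singleton_iff.1 (h1 hx)
  · rintro ⟨hcyc, -⟩
    -- two subgroups of order `r`
    have key : ∀ Z : Subgroup Y, IsPGroup r Z → Z ≠ ⊥ → ∃ z ∈ Z, orderOf z = r := by
      intro Z hZ hZ1
      have h1 : r ∣ Nat.card Z := by
        obtain ⟨k, hk⟩ := (IsPGroup.iff_card (p := r)).1 hZ
        rcases Nat.eq_zero_or_pos k with rfl | hk0
        · rw [pow_zero] at hk
          exact absurd (Subgroup.card_eq_one.1 hk) hZ1
        · rw [hk]; exact dvd_pow_self r hk0.ne'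
      obtain ⟨z, hz⟩ := exists_prime_orderOf_dvd_card' r h1
      exact ⟨z, z.2, by rw [← hz]; exact Subgroup.orderOf_coe z⟩
    obtain ⟨u, hu, hur⟩ := key _ hpa hXa
    obtain ⟨v, hv, hvr⟩ := key _ hpb hXb
    have hu' : u ∈ X a ⊔ X b := le_sup_left (a := X a) hu
    have hv' : v ∈ X a ⊔ X b := le_sup_right (b := X b) hv
    have h3 : (⟨u, hu'⟩ : ↥(X a ⊔ X b)) ∈ Subgroup.zpowers (⟨v, hv'⟩ : ↥(X a ⊔ X b)) := by
      refine cyc_mem hcyc hr.out.pos (Subtype.ext ?_) (by rw [Subgroup.orderOf_mk, hvr])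
      show u ^ r = 1
      rw [← hur, pow_orderOf_eq_one]
    obtain ⟨m, hm⟩ := Subgroup.mem_zpowers_iff.1 h3
    have h4 : u = v ^ m := (congrArg Subtype.val hm).symm
    have h5 : u ∈ X a ⊓ X b := ⟨hu, by rw [h4]; exact zpow_mem hv m⟩
    rw [hinf, Subgroup.mem_bot] at h5
    rw [h5, orderOf_one] at hur
    exact hr.out.one_lt.ne hur

end Main

end Cfsg.Agent.H790.Str
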