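import Cfsg.Agent.H790.Str.Rgd
import Cfsg.Agent.H132.S5.Eng3

/-!
# Strong pairs from the centraliser data (helper790, S2274)
-/

set_option autoImplicit false

universe u

namespace Cfsg.Agent.H790.Str

open Subgroup Cfsg.Agent.H132.S5 Cfsg.Agent.H533.T5

/-- transport along an isomorphism -/
theorem CD.congr {p r : ℕ} {S Y : Type*} [Group S] [Group Y] (e : S ≃* Y) {P H V : Subgroup Y} (D : CD p r P H V) :
    CD p r (P.comap e.toMonoidHom) (H.comap e.toMonoidHom) (V.comap e.toMonoidHom) where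
  nr U hU hPU := by
    have h1 := D.nr (U.map e.toMonoidHom) (hU.map _) (by
      intro y hy
      obtain ⟨x, rfl⟩ := e.surjective y
      have h2 : x ∈ normalizer (U : Set S) := hPU hy
      rw [mem_normalizer_iff] at h2 ⊢
      intro z
      obtain ⟨w, rfl⟩ := e.surjective z
      have h3 : ∀ v : S, e v ∈ U.map e.toMonoidHom ↔ v ∈ U := fun v =>
        ⟨fun ⟨v', hv', he⟩ => by rwa [← e.injective he], fun hv => ⟨v, hv, rfl⟩⟩
      rw [h3, ← map_mul, ← map_inv, ← map_mul, h3]
      exact h2 w)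
    rwa [map_eq_bot_iff_of_injective _ e.injective] at h1
  le := comap_mono D.le
  ne h := D.ne (by
    rw [← Subgroup.map_comap_eq_self_of_surjective (f := e.toMonoidHom) e.surjective H, h, Subgroup.map_bot])
  om z hz w hw hzp hwp hzH := by
    obtain ⟨n, hn⟩ := D.om (e z) hz (e w) hw (by rw [← map_pow, hzp, map_one]) (by rw [← map_pow, hwp, map_one]) hzH
    refine ⟨n, ?_⟩
    rw [mem_comap]
    show e (z ^ n * w) ∈ H
    rwa [map_mul, map_pow]
  pg := D.pg.comap_of_injective e.toMonoidHom e.injective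
  cm x hx y hy := by
    have h1 := D.cm (e x) hx (e y) hy
    apply e.injective
    rw [map_mul, map_mul]
    exact h1
  nd := by
    rintro ⟨h1, h2⟩
    let f : ↥(V.comap e.toMonoidHom) ≃* ↥V :=
      { toFun := fun x => ⟨e x, x.2⟩
        invFun := fun y => ⟨e.symm y, by
          show e (e.symm y) ∈ V
          rw [e.apply_symm_apply]; exact y.2⟩
        left_inv := fun x => Subtype.ext (e.symm_apply_apply _)
        right_inv := fun y => Subtype.ext (e.apply_symm_apply _)
        map_mul' := fun x y => Subtype.ext (map_mul e _ _) }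
    exact D.nd ⟨(MulEquiv.isCyclic f).1 h1, by rwa [← Nat.card_congr f.toEquiv]⟩

/-- **The engine.** -/
theorem spair_of_cd {p : ℕ} [Fact p.Prime] (h2 : p ≠ 2) (B : SBox.{u} p) {S : Type u} [Group S] [Finite S]
    [IsSimpleGroup S] (hna : ¬ IsMulCommutative S) (hlt : SBelow.{u} p (Nat.card S)) (P : Sylow p S)
    (hP : IsMulCommutative ↥(P : Subgroup S)) {r : ℕ} [hr : Fact r.Prime] (hrp : r ≠ p) {H V : Subgroup S}
    (D : CD p r (P : Subgroup S) H V) {x y : S} (hx : orderOf x = p) (hy : orderOf y = p) :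
    SPair p (⊤ : Subgroup S) x y := by
  set Ω := omega p (P : Subgroup S) (comm_of_hab hP) with hΩ
  have hp : p.Prime := Fact.out
  refine spair_of_cent' h2 B hna hlt P hP hrp D.nr (V := Ω ⊓ H) inf_le_left ?_ ?_ D.pg ?_ D.nd hx hy
  · -- an element of order `p` of `H`
    intro h0
    have hHp : IsPGroup p H := P.isPGroup'.to_le D.le
    have h1 : p ∣ Nat.card H := by
      obtain ⟨k, hk⟩ := (IsPGroup.iff_card (p := p)).1 hHp
      rcases Nat.eq_zero_or_pos k with rfl | hk0
      · rw [pow_zero] at hk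
        exact absurd (Subgroup.card_eq_one.1 hk) D.ne
      · rw [hk]; exact dvd_pow_self p hk0.ne'
    obtain ⟨z, hz⟩ := exists_prime_orderOf_dvd_card' p h1
    have hz1 : orderOf (z : S) = p := by rw [← hz]; exact Subgroup.orderOf_coe z
    have h3 : (z : S) ∈ Ω ⊓ H := ⟨⟨D.le z.2, by rw [← hz1, pow_orderOf_eq_one]⟩, z.2⟩
    rw [h0, mem_bot] at h3
    rw [h3, orderOf_one] at hz1
    exact hp.one_lt.ne hz1
  · intro z hz hzV w hw
    have hzH : z ∉ H := fun h => hzV ⟨hz, h⟩
    obtain ⟨n, hn⟩ := D.om z hz.1 w hw.1 hz.2 hw.2 hzH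
    refine ⟨n, ?_⟩
    have hc : Commute (z ^ n) w := (comm_of_hab hP z hz.1 w hw.1).pow_left n
    rw [zpow_natCast, ← hc.eq]
    exact ⟨mul_mem (pow_mem hz n) hw, hn⟩
  · intro t ht v hv
    exact D.cm t ht v hv.2

/-- the engine along an isomorphism -/
theorem spair_of_equiv {p : ℕ} [Fact p.Prime] (h2 : p ≠ 2) (B : SBox.{u} p) {S : Type u} [Group S] [Finite S]
    [IsSimpleGroup S] (hna : ¬ IsMulCommutative S) (hlt : SBelow.{u} p (Nat.card S))
    (hab : ∀ P : Sylow p S, IsMulCommutative ↥(P : Subgroup S)) {Y : Type*} [Group Y] (e : S ≃* Y) {r : ℕ}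
    [hr : Fact r.Prime] (hrp : r ≠ p) (hcd : ∃ (P : Sylow p Y) (H V : Subgroup Y), CD p r (P : Subgroup Y) H V)
    {x y : S} (hx : orderOf x = p) (hy : orderOf y = p) : SPair p (⊤ : Subgroup S) x y := by
  obtain ⟨P, H, V, D⟩ := hcd
  let P' : Sylow p S := P.comapOfInjective e.toMonoidHom e.injective (by
    rw [MonoidHom.range_eq_top.2 e.surjective]; exact le_top)
  exact spair_of_cd h2 B hna hlt P' (hab P') hrp (D.congr e) hx hy

end Cfsg.Agent.H790.Str
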